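import Cfsg.Prelude.Def_Sporadic
import Cfsg.Agent.H934.OutB
import Cfsg.Agent.OrdDiv.Table
import Cfsg.Agent.S0000
import Cfsg.Agent.S2065

/-!
# S3691: a simple group of order 175560 has trivial outer automorphism group (helper370 for helper997)
-/

set_option autoImplicit false

namespace Cfsg.Agent.H370.Rg

open Cfsg Cfsg.Agent.OrdDiv

universe u

theorem cands_j1 : (cands [(2, 3), (3, 1), (5, 1), (7, 1), (11, 1), (19, 1)] 175560).filter
    (fun g => Nat.beq (ordN g) 175560) = [Grp.j1] := by
  decide +kernel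

/-- a simple group of order 175560 is `J1` -/
theorem iso_j1 {S : Type u} [Group S] [Finite S] [IsSimpleGroup S] (h : Nat.card S = 175560) : Spor.IsoJ1 S := by
  have hna : ¬ ∀ a b : S, a * b = b * a := by
    intro hc
    have h1 : IsMulCommutative S := ⟨⟨hc⟩⟩
    have h2 : (Nat.card S).Prime := by
      let _ : CommGroup S := { (inferInstance : Group S) with mul_comm := hc }
      exact IsSimpleGroup.prime_card
    rw [h] at h2
    exact absurd h2 (by norm_num)
  obtain ⟨g, hg, hr⟩ := exists_real_filter table (Cfsg.Agent.S0000.result (G := S)) hna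
    (l := [(2, 3), (3, 1), (5, 1), (7, 1), (11, 1), (19, 1)]) (N := 175560) (by decide +kernel) (by rw [h])
    (fun n => Nat.beq n 175560) (by rw [h]; rfl)
  rw [cands_j1, List.mem_singleton] at hg
  subst hg
  exact hr

/-- this is `Cfsg.Agent.H997.Rg.OutJ1.{u}` -/
theorem outJ1 : ∀ (S : Type u) [Group S] [Finite S] [IsSimpleGroup S], Cfsg.IsJ1 S → Nat.card (Cfsg.Out S) = 1 := by
  intro S _ _ _ h
  obtain ⟨e⟩ := iso_j1 h.2
  rw [Cfsg.Agent.H934.OutB.card_out_congr e, Cfsg.Agent.S2065.result]

end Cfsg.Agent.H370.Rg
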