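import Cfsg.Agent.H402.Rg.Lst3
import Cfsg.Agent.H402.Rg.QL
import Cfsg.Agent.H402.Rg.Odd2
import Cfsg.Agent.H454.Reg.NotLe

/-!
# S3691: `PSp_6(q)`, `q` odd: no exact factorization (helper370, on top of helper402's files)

* `odd_three` : a context `Ctx 3 F f X Y e` with `31 < q` odd is impossible;
* `fac_false` : `Fac T X Y`, `T ≃* PSp 3 F`, `q` odd is impossible.
-/

set_option autoImplicit false
set_option linter.unusedSectionVars false

namespace Cfsg.Agent.H370.Rg.P6

open Matrix Cfsg Cfsg.Geo Module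
open scoped MatrixGroups Matrix
open Cfsg.Agent.H884.El (PP)
open Cfsg.Agent.H248.Cov (od_of_pp exists_r4 exists_r6)
open Cfsg.Agent.H909.Sp4List (Res88)
open Cfsg.Agent.H402.Rg
open Cfsg.Agent.H109.Cov (L06)

/-! ### numbers -/

theorem geom_three {q : ℕ} (hq : 1 < q) : (q ^ (2 * 3) - 1) / (q - 1) = (q + 1) * (q ^ 4 + q ^ 2 + 1) := by
  apply Nat.div_eq_of_eq_mul_left (by omega)
  obtain ⟨x, rfl⟩ : ∃ x, q = x + 1 := ⟨q - 1, by omega⟩
  have h1 : 1 ≤ (x + 1) ^ (2 * 3) := Nat.one_le_pow _ _ (by omega)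
  zify [h1]
  simp only [Nat.add_sub_cancel]
  push_cast
  ring

variable {F : Type} [Field F] [Fintype F] {p f : ℕ}

/-- the order of `Sp_6(q)` -/
theorem card_sp6 : Nat.card (spGL 3 F) = Fintype.card F ^ 9 *
    ((Fintype.card F ^ 2 - 1) * (Fintype.card F ^ 4 - 1) * (Fintype.card F ^ 6 - 1)) := by
  rw [card_sp, Finset.prod_range_succ, Finset.prod_range_succ, Finset.prod_range_one]
  norm_num

/-- the order of `Sp_4(q)` -/
theorem card_sp4 : Nat.card (spGL 2 F) = Fintype.card F ^ 4 * ((Fintype.card F ^ 2 - 1) * (Fintype.card F ^ 4 - 1)) := by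
  rw [card_sp, Finset.prod_range_succ, Finset.prod_range_one]
  norm_num

/-- the order of `Sp_2(q)` -/
theorem card_sp2 : Nat.card (spGL 1 F) = Fintype.card F * (Fintype.card F ^ 2 - 1) := by
  rw [card_sp, Finset.prod_range_one]
  norm_num

set_option maxHeartbeats 4000000 in
theorem odd_three_aux (hp : p.Prime) (hf : 1 ≤ f) (hF : Fintype.card F = p ^ f) (hodd : Odd (Fintype.card F))
    (hq : 31 < Fintype.card F) (h88 : Res88 F)
    (h06 : ∀ H : Subgroup (GL (Fin 3 ⊕ Fin 3) F), IsMaximalIn (spGL 3 F) H → InSymplecticResidualClass H → L06 H)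
    {X Y : Subgroup (GL (Fin 3 ⊕ Fin 3) F)} {e : ℕ} (h : Ctx 3 F f X Y e)
    {r : ℕ} (hr : PP p (f * 6) r) (hrX : r ∣ Nat.card X) : False := by
  have hfin : Finite (GL (Fin 3 ⊕ Fin 3) F) := inferInstance
  have hfin2 : Finite (GL (Fin 2 ⊕ Fin 2) F) := inferInstance
  have hpf : Fact p.Prime := ⟨hp⟩
  have hchar : CharP F p := by
    obtain ⟨p', hp'⟩ := CharP.exists F
    obtain ⟨n, hpp, hn⟩ := FiniteField.card F p'
    have h1 : p' ∣ p ^ f := by rw [← hF, hn]; exact dvd_pow_self _ n.ne_zero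
    have h2 : p' = p := (Nat.prime_dvd_prime_iff_eq hpp hp).1 (hpp.dvd_of_dvd_pow h1)
    rwa [h2] at hp'
  have hp2 : p ≠ 2 := by
    rintro rfl
    rw [hF] at hodd
    exact absurd ((Nat.odd_pow_iff (by omega)).1 hodd) (by decide)
  have hp3 : 3 ≤ p := by
    have := hp.two_le
    omega
  have h8 := eight_lt (N := 0) hp3 (f := f) (by omega) rfl
  have he2f := Nat.le_of_dvd (by omega) h.he
  have he1 : 1 ≤ e := by
    rcases Nat.eq_zero_or_pos e with h0 | h0
    · have := h.he
      rw [h0] at this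
      have := Nat.eq_zero_of_zero_dvd this
      omega
    · exact h0
  have hcF := card_sp6 (F := F)
  have hcF4 := card_sp4 (F := F)
  have hcF2 := card_sp2 (F := F)
  have hminX := h.minX
  have hminY := h.minY
  set q := Fintype.card F with hqd
  rw [← hF] at h8
  have hYpos : 0 < Nat.card Y := Nat.card_pos
  have hXpos : 0 < Nat.card X := Nat.card_pos
  have hcard := h.card
  rw [hcF] at hcard
  rw [geom_three (by omega), hcF] at hminX hminY
  set S2 := q ^ 2 - 1 with hS2
  set S4 := q ^ 4 - 1 with hS4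
  set S6 := q ^ 6 - 1 with hS6
  have hS2p : 0 < S2 := by
    have : 1 < q ^ 2 := Nat.one_lt_pow (by norm_num) (by omega)
    omega
  have hS4p : 0 < S4 := by
    have : 1 < q ^ 4 := Nat.one_lt_pow (by norm_num) (by omega)
    omega
  have hS6p : 0 < S6 := by
    have : 1 < q ^ 6 := Nat.one_lt_pow (by norm_num) (by omega)
    omega
  have hq0 : 0 < q := by omega
  -- the lower bounds
  have hlow : ∀ a b : ℕ, 0 < b → a * b * e = 2 * (q ^ 9 * (S2 * S4 * S6)) →
      b * ((q + 1) * (q ^ 4 + q ^ 2 + 1)) ≤ q ^ 9 * (S2 * S4 * S6) → (q + 1) * (q ^ 4 + q ^ 2 + 1) ≤ a * f := by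
    intro a b hb h1 h2
    have h3 : (2 * ((q + 1) * (q ^ 4 + q ^ 2 + 1))) * b ≤ (a * e) * b := by
      calc (2 * ((q + 1) * (q ^ 4 + q ^ 2 + 1))) * b = 2 * (b * ((q + 1) * (q ^ 4 + q ^ 2 + 1))) := by ring
        _ ≤ 2 * (q ^ 9 * (S2 * S4 * S6)) := Nat.mul_le_mul_left _ h2
        _ = (a * e) * b := by rw [← h1]; ring
    have h4 := Nat.le_of_mul_le_mul_right h3 hb
    have h5 : a * e ≤ a * (2 * f) := Nat.mul_le_mul_left _ he2f
    have h6 : 2 * ((q + 1) * (q ^ 4 + q ^ 2 + 1)) ≤ 2 * (a * f) := by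
      calc _ ≤ _ := h4.trans h5
        _ = _ := by ring
    omega
  have hlowX := hlow _ _ hYpos hcard hminY
  have hlowY := hlow _ _ hXpos (by rw [mul_comm (Nat.card Y)]; exact hcard) hminX
  have hsmall : ∀ n, (q + 1) * (q ^ 4 + q ^ 2 + 1) ≤ n * f → 2419200 < n := by
    intro n hn
    by_contra hcon
    have h1 : (q + 1) * (q ^ 4 + q ^ 2 + 1) ≤ 2419200 * f := hn.trans (Nat.mul_le_mul_right _ (by omega))
    have h2 : 32 ^ 3 * 32 ≤ q ^ 4 := by
      calc 32 ^ 3 * 32 = 32 ^ 4 := by norm_num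
        _ ≤ q ^ 4 := Nat.pow_le_pow_left (by omega) 4
    have h3 : q * q ^ 4 ≤ 302400 * q := by
      calc q * q ^ 4 ≤ (q + 1) * (q ^ 4 + q ^ 2 + 1) := Nat.mul_le_mul (by omega) (by omega)
        _ ≤ 2419200 * f := h1
        _ = 302400 * (8 * f) := by ring
        _ ≤ 302400 * q := Nat.mul_le_mul_left _ h8.le
    have h4 : q * q ^ 4 ≤ q * 302400 := by rw [mul_comm q 302400]; exact h3
    have h5 := Nat.le_of_mul_le_mul_left h4 hq0
    omega
  -- the primes
  obtain ⟨s, hs⟩ := exists_r4 hp hf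
  obtain ⟨t, ht⟩ : ∃ t, PP p (f * 3) t := Cfsg.Agent.H884.El.exists_pp hp.two_le (by omega) (by
    rintro ⟨h1, -⟩
    exact hp2 h1)
  have hods := od_of_pp hF hf (by norm_num) hs
  have hodt := od_of_pp hF hf (by norm_num) ht
  have hods' : ∀ m, s ∣ q ^ m - 1 ↔ 4 ∣ m := hods.dvd_iff Fintype.card_pos
  have hodt' : ∀ m, t ∣ q ^ m - 1 ↔ 3 ∣ m := hodt.dvd_iff Fintype.card_pos
  have hslt := hs.lt (by omega)
  have htlt := ht.lt (by omega)
  have hsq : ¬ s ∣ q := hods.ndvd
  have htq : ¬ t ∣ q := hodt.ndvd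
  have hse : ¬ s ∣ e := fun h1 => by
    have := Nat.le_of_dvd (by omega) (h1.trans h.he)
    omega
  have hte : ¬ t ∣ e := fun h1 => by
    have := Nat.le_of_dvd (by omega) (h1.trans h.he)
    omega
  have hsXYe : s ∣ Nat.card X * Nat.card Y * e := by
    rw [hcard]
    have h1 : s ∣ S4 := (hods' 4).2 dvd_rfl
    exact (((h1.mul_left _).mul_right _).mul_left _).mul_left _
  have htXYe : t ∣ Nat.card X * Nat.card Y * e := by
    rw [hcard]
    have h1 : t ∣ S6 := (hodt' 6).2 (by norm_num)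
    exact ((h1.mul_left _).mul_left _).mul_left _
  -- the list for `X`
  have hX3 : InFld 3 3 F X ∨ Nat.card X ∣ 2 * (q ^ 3 * (q + 1) * (q ^ 2 - 1) * (q ^ 3 + 1)) := by
    rcases list3_six hp hf hF hodd hq h06 hr h.leX h.neX hrX with h1 | h1 | h1
    · exact Or.inl h1
    · exact Or.inr h1
    · have := hsmall _ hlowX
      omega
  have hfldX : ∀ hX : InFld 3 3 F X, Nat.card X ∣ 3 * (q ^ 3 * S6) := by
    rintro ⟨K, hK, hsa, halt, hXK⟩
    have h1 := norm_dvd (n := 1) (by norm_num) (by norm_num) (by norm_num) hK hsa halt h.leX hXK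
    rw [Finset.prod_range_one] at h1
    have e1 : (Fintype.card F ^ 3) ^ 1 ^ 2 * ((Fintype.card F ^ 3) ^ (2 * (0 + 1)) - 1) = q ^ 3 * S6 := by
      rw [← hqd, hS6]; congr 1
      · ring
      · congr 1; ring
    rwa [e1] at h1
  have hgu : 2 * (q ^ 3 * (q + 1) * (q ^ 2 - 1) * (q ^ 3 + 1)) ∣ 2 * (q ^ 3 * ((q ^ 2 - 1) * (q ^ 2 - 1) * (q ^ 6 - 1))) := by
    have h1 : q + 1 ∣ q ^ 2 - 1 := ⟨q - 1, by
      obtain ⟨x, hx⟩ : ∃ x, q = x + 1 := ⟨q - 1, by omega⟩
      rw [hx]
      have : 1 ≤ (x + 1) ^ 2 := Nat.one_le_pow _ _ (by omega)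
      zify [this]
      simp only [Nat.add_sub_cancel]
      ring⟩
    have h2 : q ^ 3 + 1 ∣ q ^ 6 - 1 := ⟨q ^ 3 - 1, by
      have h3 : 1 ≤ q ^ 3 := Nat.one_le_pow _ _ (by omega)
      have h4 : 1 ≤ q ^ 6 := Nat.one_le_pow _ _ (by omega)
      zify [h3, h4]
      ring⟩
    apply Nat.mul_dvd_mul_left
    have h3 : q ^ 3 * (q + 1) * (q ^ 2 - 1) * (q ^ 3 + 1) = q ^ 3 * ((q + 1) * (q ^ 2 - 1) * (q ^ 3 + 1)) := by ring
    rw [h3]
    exact Nat.mul_dvd_mul_left _ (Nat.mul_dvd_mul (Nat.mul_dvd_mul_right h1 _) h2)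
  -- `r₄` divides `|Y|`
  have hsX : ¬ s ∣ Nat.card X := by
    intro h0
    rcases hX3 with h1 | h1
    · rcases hs.prime.dvd_mul.1 (h0.trans (hfldX h1)) with h2 | h2
      · have := Nat.le_of_dvd (by norm_num) h2; omega
      · rcases hs.prime.dvd_mul.1 h2 with h3 | h3
        · exact hsq (hs.prime.dvd_of_dvd_pow h3)
        · have := (hods' 6).1 h3; omega
    · rcases hs.prime.dvd_mul.1 (h0.trans (h1.trans hgu)) with h2 | h2
      · have := Nat.le_of_dvd (by norm_num) h2; omega
      · rcases hs.prime.dvd_mul.1 h2 with h3 | h3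
        · exact hsq (hs.prime.dvd_of_dvd_pow h3)
        · rcases hs.prime.dvd_mul.1 h3 with h4 | h4
          · rcases hs.prime.dvd_mul.1 h4 with h5 | h5
            · have := (hods' 2).1 h5; omega
            · have := (hods' 2).1 h5; omega
          · have := (hods' 6).1 h4; omega
  have hsY : s ∣ Nat.card Y := by
    rcases hs.prime.dvd_mul.1 hsXYe with h1 | h1
    · exact (hs.prime.dvd_mul.1 h1).resolve_left hsX
    · exact absurd h1 hse
  -- the list for `Y`
  have hY : (∃ fr : Fr 2 3 F, fr.Par Y) ∨ (∃ fr : Fr 2 3 F, fr.Sta Y) := by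
    rcases list3_four hp hf hF hodd hq h06 hs h.leY h.neY hsY with ⟨W, hW0, hW2, hW, hYW⟩ | h1
    · rcases hW with hW | hW
      · left
        obtain ⟨u, hu0, hu⟩ := finrank_eq_one_iff'.1 hW
        have hu0' : (u : Fin 3 ⊕ Fin 3 → F) ≠ 0 := fun h0 => hu0 (Subtype.ext h0)
        obtain ⟨fr, hfr⟩ := exists_fr' (k := 2) (m := 3) rfl hu0'
        refine ⟨fr, h.leY, fun g hg => ?_⟩
        rw [hfr]
        have h2 : (g : Matrix (Fin 3 ⊕ Fin 3) (Fin 3 ⊕ Fin 3) F) *ᵥ (u : Fin 3 ⊕ Fin 3 → F) ∈ W :=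
          (Cfsg.Agent.H918.mem_subspaceStabilizer.1 (hYW hg) _).1 u.2
        obtain ⟨c, hc⟩ := hu ⟨_, h2⟩
        exact ⟨c, (congrArg Subtype.val hc).symm⟩
      · right
        obtain ⟨u, hu, hu0⟩ := (Submodule.ne_bot_iff _).1 hW0
        obtain ⟨-, v₀, hv₀, huv₀⟩ := hW u hu hu0
        obtain ⟨fr, h1, h2⟩ := exists_fr (k := 2) (m := 3) rfl (u := u) (v := (sympForm 3 F u v₀)⁻¹ • v₀) (by
          rw [Cfsg.Agent.ClassicalGeometry.SympBasic.sympForm_smul_right, inv_mul_cancel₀ huv₀])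
        have hvW : fr.v ∈ W := by rw [h2]; exact W.smul_mem _ hv₀
        have huW : fr.u ∈ W := by rw [h1]; exact hu
        have hspan : W = Submodule.span F {fr.u, fr.v} := by
          symm
          apply Submodule.eq_of_le_of_finrank_le
          · rw [Submodule.span_le]
            rintro x (rfl | rfl)
            · exact huW
            · exact hvW
          · have hli : LinearIndependent F ![fr.u, fr.v] := by
              rw [LinearIndependent.pair_iff]
              intro a b hab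
              have e1 := congrArg (fun z => sympForm 3 F fr.u z) hab
              have e2 := congrArg (fun z => sympForm 3 F z fr.v) hab
              simp only [Cfsg.Agent.ClassicalGeometry.SympBasic.sympForm_add_left,
                Cfsg.Agent.ClassicalGeometry.SympBasic.sympForm_add_right,
                Cfsg.Agent.ClassicalGeometry.SympBasic.sympForm_smul_left,
                Cfsg.Agent.ClassicalGeometry.SympBasic.sympForm_smul_right,
                Cfsg.Agent.ClassicalGeometry.SympBasic.sympForm_self, fr.uv,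
                Cfsg.Agent.ClassicalGeometry.SympBasic.sympForm_zero_left,
                Cfsg.Agent.ClassicalGeometry.SympBasic.sympForm_zero_right, mul_zero, mul_one, zero_add,
                add_zero] at e1 e2
              exact ⟨e2, e1⟩
            have h3 := finrank_span_eq_card hli
            rw [Matrix.range_cons, Matrix.range_cons, Matrix.range_empty, Set.union_empty, Set.singleton_union,
              Fintype.card_fin] at h3
            rw [h3]
            exact hW2
        have hπ : ∀ z ∈ W, fr.π z = 0 := by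
          intro z hz
          rw [hspan] at hz
          obtain ⟨a, b, rfl⟩ := Submodule.mem_span_pair.1 hz
          rw [map_add, map_smul, map_smul, fr.πu, fr.πv, smul_zero, smul_zero, add_zero]
        refine ⟨fr, h.leY, fun g hg => ⟨hπ _ ?_, hπ _ ?_⟩⟩
        · exact (Cfsg.Agent.H918.mem_subspaceStabilizer.1 (hYW hg) _).1 huW
        · exact (Cfsg.Agent.H918.mem_subspaceStabilizer.1 (hYW hg) _).1 hvW
    · have := hsmall _ hlowY
      omega
  -- an upper bound for `|Y|` in both cases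
  have hYd : Nat.card Y ∣ (q ^ 4 * (S2 * S4)) * (S2 * q ^ 5) := by
    have hq1S : q - 1 ∣ S2 := ⟨q + 1, by
      obtain ⟨x, hx⟩ : ∃ x, q = x + 1 := ⟨q - 1, by omega⟩
      rw [hS2, hx]
      have : 1 ≤ (x + 1) ^ 2 := Nat.one_le_pow _ _ (by omega)
      zify [this]
      simp only [Nat.add_sub_cancel]
      ring⟩
    rcases hY with ⟨fr, hfr⟩ | ⟨fr, hfr⟩
    · refine (Fr.par_dvd hfr).trans (Nat.mul_dvd_mul ?_ ?_)
      · rw [← hcF4]
        apply Subgroup.card_dvd_of_le
        rintro _ ⟨x, rfl⟩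
        exact Fr.rho_mem hfr.ok x
      · refine Nat.mul_dvd_mul hq1S ?_
        exact ⟨1, by ring⟩
    · refine (Fr.card_sta hfr).trans (Nat.mul_dvd_mul ?_ ?_)
      · rw [← hcF4]
        apply Subgroup.card_dvd_of_le
        rintro _ ⟨x, rfl⟩
        exact Fr.r₂_mem hfr x
      · rw [hcF2]
        exact ⟨q ^ 4, by ring⟩
  have htY : ¬ t ∣ Nat.card Y := by
    intro h0
    have h1 := h0.trans hYd
    have hS2' : ¬ t ∣ S2 := fun h2 => by have := (hodt' 2).1 h2; omega
    have hS4' : ¬ t ∣ S4 := fun h2 => by have := (hodt' 4).1 h2; omega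
    rcases ht.prime.dvd_mul.1 h1 with h2 | h2
    · rcases ht.prime.dvd_mul.1 h2 with h3 | h3
      · exact htq (ht.prime.dvd_of_dvd_pow h3)
      · rcases ht.prime.dvd_mul.1 h3 with h4 | h4
        · exact hS2' h4
        · exact hS4' h4
    · rcases ht.prime.dvd_mul.1 h2 with h3 | h3
      · exact hS2' h3
      · exact htq (ht.prime.dvd_of_dvd_pow h3)
  have htX : t ∣ Nat.card X := by
    rcases ht.prime.dvd_mul.1 htXYe with h1 | h1
    · exact (ht.prime.dvd_mul.1 h1).resolve_right htY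
    · exact absurd h1 hte
  -- `X` normalises a cubic field
  have hfld : InFld 3 3 F X := by
    rcases hX3 with h1 | h1
    · exact h1
    · exfalso
      have hS2' : ¬ t ∣ q ^ 2 - 1 := fun h2 => by have := (hodt' 2).1 h2; omega
      have ht1 : ¬ t ∣ q + 1 := fun h2 => hS2' (h2.trans ⟨q - 1, by
        obtain ⟨x, hx⟩ : ∃ x, q = x + 1 := ⟨q - 1, by omega⟩
        rw [hx]
        have : 1 ≤ (x + 1) ^ 2 := Nat.one_le_pow _ _ (by omega)
        zify [this]
        simp only [Nat.add_sub_cancel]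
        ring⟩)
      have ht3 : ¬ t ∣ q ^ 3 + 1 := by
        intro h2
        have h3 : t ∣ q ^ 3 - 1 := (hodt' 3).2 dvd_rfl
        have h4 := Nat.dvd_sub h2 h3
        have h5 : 1 ≤ q ^ 3 := Nat.one_le_pow _ _ (by omega)
        have h6 : q ^ 3 + 1 - (q ^ 3 - 1) = 2 := by omega
        rw [h6] at h4
        have := Nat.le_of_dvd (by norm_num) h4
        omega
      rcases ht.prime.dvd_mul.1 (htX.trans h1) with h2 | h2
      · have := Nat.le_of_dvd (by norm_num) h2; omega
      · rcases ht.prime.dvd_mul.1 h2 with h3 | h3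
        · rcases ht.prime.dvd_mul.1 h3 with h4 | h4
          · rcases ht.prime.dvd_mul.1 h4 with h5 | h5
            · exact htq (ht.prime.dvd_of_dvd_pow h5)
            · exact ht1 h5
          · exact hS2' h4
        · exact ht3 h3
  -- the order of `Y`
  have hYe : q ^ 6 * (2 * (S2 * S4)) ∣ 3 * e * Nat.card Y := by
    obtain ⟨c, hc⟩ := hfldX hfld
    have h1 : (q ^ 3 * S6) * (3 * e * Nat.card Y) = (q ^ 3 * S6) * (c * (q ^ 6 * (2 * (S2 * S4)))) := by
      calc (q ^ 3 * S6) * (3 * e * Nat.card Y) = (3 * (q ^ 3 * S6)) * (Nat.card Y * e) := by ring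
        _ = c * (Nat.card X * Nat.card Y * e) := by rw [hc]; ring
        _ = _ := by rw [hcard]; ring
    have h2 := Nat.eq_of_mul_eq_mul_left (by positivity) h1
    rw [h2]
    exact Dvd.intro_left _ rfl
  have hcop : Nat.Coprime q (S2 * (S2 * S4)) := by
    have key : ∀ n, 1 ≤ n → Nat.Coprime q (q ^ n - 1) := by
      intro n hn
      have h1 := cop_pp (p := p) hF hf f n hn
      rwa [← hF] at h1
    exact Nat.Coprime.mul_right (key 2 (by norm_num)) (Nat.Coprime.mul_right (key 2 (by norm_num)) (key 4 (by norm_num)))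
  have hq3e : ∀ m, m ∣ S2 * (S2 * S4) → Nat.card Y ∣ q ^ 5 * m → False := by
    intro m hm h0
    have h1 : q ^ 5 * q ∣ q ^ 5 * (3 * e * m) := by
      calc q ^ 5 * q ∣ q ^ 6 * (2 * (S2 * S4)) := ⟨2 * (S2 * S4), by ring⟩
        _ ∣ 3 * e * Nat.card Y := hYe
        _ ∣ 3 * e * (q ^ 5 * m) := Nat.mul_dvd_mul_left _ h0
        _ = q ^ 5 * (3 * e * m) := by ring
    have h2 := Nat.dvd_of_mul_dvd_mul_left (by positivity) h1
    have h3 : q ∣ 3 * e := (hcop.coprime_dvd_right hm).dvd_of_dvd_mul_right h2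
    have h4 := Nat.le_of_dvd (by omega) h3
    omega
  rcases hY with ⟨fr, hfr⟩ | ⟨fr, hfr⟩
  swap
  · -- the plane
    refine hq3e (S2 * (S2 * S4)) dvd_rfl ((Fr.card_sta hfr).trans ?_)
    have h1 : Nat.card (Fr.r₂ hfr).range ∣ Nat.card (spGL 2 F) := by
      apply Subgroup.card_dvd_of_le
      rintro _ ⟨x, rfl⟩
      exact Fr.r₂_mem hfr x
    rw [hcF2]
    refine (Nat.mul_dvd_mul_right h1 _).trans ?_
    rw [hcF4]
    exact ⟨1, by ring⟩
  · -- the point
    have hRS : (fr.rho hfr.ok).range ≤ spGL 2 F := by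
      rintro _ ⟨x, rfl⟩
      exact Fr.rho_mem hfr.ok x
    by_cases hR : (fr.rho hfr.ok).range = spGL 2 F
    · rcases Fr.par_cases hfr (by norm_num) (two_ne hodd)
        (Cfsg.Agent.H16.PSp4.spGL_perfect (Or.inr (Or.inr (by omega)))) hR.ge with h1 | ⟨c, hc, h1⟩
      · refine hq3e ((q - 1) * (S2 * S4)) (Nat.mul_dvd_mul_right ⟨q + 1, ?_⟩ _) (h1.trans ?_)
        · obtain ⟨x, hx⟩ : ∃ x, q = x + 1 := ⟨q - 1, by omega⟩
          rw [hS2, hx]
          have : 1 ≤ (x + 1) ^ 2 := Nat.one_le_pow _ _ (by omega)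
          zify [this]
          simp only [Nat.add_sub_cancel]
          ring
        · rw [hcF4]
          exact ⟨1, by ring⟩
      · -- `|X| c e = 2 (q⁶ - 1)`
        have h2 : Nat.card X * c * e = 2 * S6 := by
          have h3 : (q ^ 9 * (S2 * S4)) * (Nat.card X * c * e) = (q ^ 9 * (S2 * S4)) * (2 * S6) := by
            have h4 : Nat.card Y = q ^ 4 * (S2 * S4) * (c * (q ^ 4 * q)) := by
              rw [h1, hcF4]
            have h5 := hcard
            rw [h4] at h5
            calc (q ^ 9 * (S2 * S4)) * (Nat.card X * c * e) = Nat.card X * (q ^ 4 * (S2 * S4) * (c * (q ^ 4 * q))) * e := by ring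
              _ = _ := by rw [h5]; ring
          exact Nat.eq_of_mul_eq_mul_left (by positivity) h3
        obtain ⟨K, hK, hsa, halt, hXK⟩ := hfld
        have hr' : PP p (2 * (3 * f)) r := by
          rw [show 2 * (3 * f) = f * 6 by ring]; exact hr
        rcases dD hF hf (by omega) (by norm_num) hr' hK hsa halt h.leX hXK hrX with
          ⟨E, iE, iE', iA, cd, hE3, hEc, hC⟩ | h3 | h3
        · -- `p` divides `|X|`
          have h3 : Nat.card (spGL 1 E) ∣ Nat.card X := by
            rw [← cd.card_spGL]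
            apply Subgroup.card_dvd_of_le
            rintro _ ⟨A, hA, rfl⟩
            exact hC A hA
          have h4 : p ∣ 2 * S6 := by
            rw [← h2]
            refine ((dvd_trans ?_ h3).mul_right c).mul_right e
            rw [card_sp2 (F := E), hEc, ← hqd, hF]
            exact (dvd_pow_self p (by omega)).trans ((dvd_pow_self _ (by norm_num)).trans (Dvd.intro _ rfl))
          rcases hp.dvd_mul.1 h4 with h5 | h5
          · exact hp2 ((Nat.prime_dvd_prime_iff_eq hp Nat.prime_two).1 h5)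
          · have h6 := cop_pp (p := p) hF hf 1 6 (by norm_num)
            rw [pow_one, hp.coprime_iff_not_dvd] at h6
            exact h6 h5
        · -- too small
          rw [← hqd] at h3
          have h4 : (q + 1) * (q ^ 4 + q ^ 2 + 1) ≤ 3 * (4 * (q ^ 3 + 1)) * f := hlowX.trans (Nat.mul_le_mul_right _ h3)
          have h5 : 3 * (4 * (q ^ 3 + 1)) * f ≤ 2 * (q ^ 3 + 1) * q := by
            calc 3 * (4 * (q ^ 3 + 1)) * f ≤ 2 * (q ^ 3 + 1) * (8 * f) := by
                  have : 3 * (4 * (q ^ 3 + 1)) * f = (q ^ 3 + 1) * (12 * f) := by ring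
                  rw [this]
                  have : 2 * (q ^ 3 + 1) * (8 * f) = (q ^ 3 + 1) * (16 * f) := by ring
                  rw [this]
                  exact Nat.mul_le_mul_left _ (by omega)
              _ ≤ _ := Nat.mul_le_mul_left _ h8.le
          have h6 := h4.trans h5
          nlinarith [h6, Nat.pow_le_pow_left hq.le 2, pow_pos hq0 3, pow_pos hq0 4, pow_pos hq0 2]
        · have := hsmall _ hlowX
          omega
    · -- the image is proper
      have hsR : s ∣ Nat.card (fr.rho hfr.ok).range := by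
        rcases hs.prime.dvd_mul.1 (hsY.trans (Fr.par_dvd hfr)) with h1 | h1
        · exact h1
        · exfalso
          rcases hs.prime.dvd_mul.1 h1 with h2 | h2
          · have := (hods' 1).1 (by rwa [pow_one]); omega
          · rcases hs.prime.dvd_mul.1 h2 with h3 | h3
            · exact hsq (hs.prime.dvd_of_dvd_pow h3)
            · exact hsq h3
      have hYle := Fr.par_dvd hfr
      rcases list2 hp hf hF hodd (by omega) h88 hs hRS hR hsR with ⟨K, hK, hsa, halt, hXK⟩ | h1
      · have h1 := norm_dvd (n := 1) (by norm_num) (by norm_num) (by norm_num) hK hsa halt hRS hXK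
        rw [Finset.prod_range_one] at h1
        have e1 : (Fintype.card F ^ 2) ^ 1 ^ 2 * ((Fintype.card F ^ 2) ^ (2 * (0 + 1)) - 1) = q ^ 2 * S4 := by
          rw [← hqd, hS4]; congr 1
          · ring
          · congr 1; ring
        rw [e1] at h1
        have h2 : (q ^ 6 * (2 * S4 * (q - 1))) * (q + 1) ∣ (q ^ 6 * (2 * S4 * (q - 1))) * (3 * e * q) := by
          have hS : S2 = (q - 1) * (q + 1) := by
            obtain ⟨x, hx⟩ : ∃ x, q = x + 1 := ⟨q - 1, by omega⟩
            rw [hS2, hx]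
            have : 1 ≤ (x + 1) ^ 2 := Nat.one_le_pow _ _ (by omega)
            zify [this]
            simp only [Nat.add_sub_cancel]
            ring
          calc (q ^ 6 * (2 * S4 * (q - 1))) * (q + 1) = q ^ 6 * (2 * (S2 * S4)) := by rw [hS]; ring
            _ ∣ 3 * e * Nat.card Y := hYe
            _ ∣ 3 * e * ((2 * (q ^ 2 * S4)) * ((q - 1) * (q ^ (2 * 2) * q))) :=
                Nat.mul_dvd_mul_left _ (hYle.trans (Nat.mul_dvd_mul_right h1 _))
            _ = (q ^ 6 * (2 * S4 * (q - 1))) * (3 * e * q) := by ring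
        have h3 : q + 1 ∣ 3 * e * q := by
          refine Nat.dvd_of_mul_dvd_mul_left ?_ h2
          have : 0 < q - 1 := by omega
          positivity
        have h4 : Nat.Coprime (q + 1) q := by simp
        have h5 := Nat.le_of_dvd (by omega) (h4.dvd_of_dvd_mul_right h3)
        omega
      · have h2 : Nat.card Y ≤ 10080 * ((q - 1) * (q ^ (2 * 2) * q)) :=
          (Nat.le_of_dvd (by
            have : 0 < q - 1 := by omega
            have : 0 < Nat.card (fr.rho hfr.ok).range := Nat.card_pos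
            positivity) hYle).trans (Nat.mul_le_mul_right _ h1)
        have h3 : q ^ 6 * (2 * (S2 * S4)) ≤ 3 * e * Nat.card Y := Nat.le_of_dvd (by positivity) hYe
        have hS : S2 = (q - 1) * (q + 1) := by
          obtain ⟨x, hx⟩ : ∃ x, q = x + 1 := ⟨q - 1, by omega⟩
          rw [hS2, hx]
          have : 1 ≤ (x + 1) ^ 2 := Nat.one_le_pow _ _ (by omega)
          zify [this]
          simp only [Nat.add_sub_cancel]
          ring
        have h4 : (q ^ 6 * (q - 1)) * (2 * (q + 1) * S4) ≤ (q ^ 6 * (q - 1)) * 7560 := by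
          calc (q ^ 6 * (q - 1)) * (2 * (q + 1) * S4) = q ^ 6 * (2 * (S2 * S4)) := by rw [hS]; ring
            _ ≤ 3 * e * Nat.card Y := h3
            _ ≤ 3 * e * (10080 * ((q - 1) * (q ^ (2 * 2) * q))) := Nat.mul_le_mul_left _ h2
            _ = (q ^ 5 * (q - 1)) * (30240 * e) := by ring
            _ ≤ (q ^ 5 * (q - 1)) * (7560 * q) := Nat.mul_le_mul_left _ (by omega)
            _ = _ := by ring
        have h5 := Nat.le_of_mul_le_mul_left h4 (by
          have : 0 < q - 1 := by omega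
          positivity)
        have h6 : 32 ^ 4 ≤ q ^ 4 := Nat.pow_le_pow_left (by omega) 4
        have h7 : 1 * (32 ^ 4 - 1) ≤ 2 * (q + 1) * S4 := Nat.mul_le_mul (by omega) (by omega)
        norm_num at h7
        omega

theorem odd_three (hp : p.Prime) (hf : 1 ≤ f) (hF : Fintype.card F = p ^ f) (hodd : Odd (Fintype.card F))
    (hq : 31 < Fintype.card F) (h88 : Res88 F)
    (h06 : ∀ H : Subgroup (GL (Fin 3 ⊕ Fin 3) F), IsMaximalIn (spGL 3 F) H → InSymplecticResidualClass H → L06 H)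
    {X Y : Subgroup (GL (Fin 3 ⊕ Fin 3) F)} {e : ℕ} (h : Ctx 3 F f X Y e) : False := by
  have hp2 : p ≠ 2 := by
    rintro rfl
    rw [hF] at hodd
    exact absurd ((Nat.odd_pow_iff (by omega)).1 hodd) (by decide)
  obtain ⟨r, hr⟩ := exists_r6 hp hp2 hf
  have hod := od_of_pp hF hf (by norm_num) hr
  have hrd : r ∣ Nat.card X * Nat.card Y * e := by
    rw [h.card, card_sp6]
    have h1 : r ∣ Fintype.card F ^ 6 - 1 := (hod.dvd_iff Fintype.card_pos 6).2 dvd_rfl
    exact ((h1.mul_left _).mul_left _).mul_left _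
  have hlt := hr.lt (by omega)
  rcases hr.prime.dvd_mul.1 hrd with h1 | h1
  · rcases hr.prime.dvd_mul.1 h1 with h2 | h2
    · exact odd_three_aux hp hf hF hodd hq h88 h06 h hr h2
    · exact odd_three_aux hp hf hF hodd hq h88 h06 h.symm hr h2
  · have := Nat.le_of_dvd (by omega) (h1.trans h.he)
    omega

/-- the bound for `q` -/
theorem lt_of_large (hodd : Odd (Fintype.card F)) (h : 3 * Nat.factorial 29 < Nat.card (PSp 3 F)) : 31 < Fintype.card F := by
  by_contra hcon
  have h1 := Cfsg.Agent.H618.Dp.card_ker (m := 3) (F := F)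
  rw [card_ker_odd hodd (by norm_num), card_sp6] at h1
  have h2 : Fintype.card F ^ 9 * ((Fintype.card F ^ 2 - 1) * (Fintype.card F ^ 4 - 1) * (Fintype.card F ^ 6 - 1)) ≤
      31 ^ 9 * ((31 ^ 2 - 1) * (31 ^ 4 - 1) * (31 ^ 6 - 1)) := by
    have hk : ∀ n, Fintype.card F ^ n ≤ 31 ^ n := fun n => Nat.pow_le_pow_left (by omega) n
    exact Nat.mul_le_mul (hk 9) (Nat.mul_le_mul (Nat.mul_le_mul (Nat.sub_le_sub_right (hk 2) 1)
      (Nat.sub_le_sub_right (hk 4) 1)) (Nat.sub_le_sub_right (hk 6) 1))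
  have h3 : 31 ^ 9 * ((31 ^ 2 - 1) * (31 ^ 4 - 1) * (31 ^ 6 - 1)) ≤ 2 * (3 * Nat.factorial 29) := by
    norm_num [Nat.factorial]
  omega

universe u

/-- **no exact factorization with socle `PSp_6(q)`, `q` odd** -/
theorem fac_false {G : Type u} [Group G] [Finite G] {T X Y : Subgroup G} (h : Cfsg.Agent.H454.Reg.Fac T X Y)
    (i : T ≃* PSp 3 F) (hodd : Odd (Fintype.card F)) (h88 : Res88 F)
    (h06 : ∀ H : Subgroup (GL (Fin 3 ⊕ Fin 3) F), IsMaximalIn (spGL 3 F) H → InSymplecticResidualClass H → L06 H) : False := by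
  have hq := lt_of_large hodd (by
    rw [← Nat.card_congr i.toEquiv]
    exact h.large)
  obtain ⟨p, hchar⟩ := CharP.exists F
  obtain ⟨f, hp, hF⟩ := FiniteField.card F p
  obtain ⟨X₁, Y₁, e, hc⟩ := exists_ctx h i hp f.pos hF hodd (by omega) (by norm_num)
  exact odd_three hp f.pos hF hodd hq h88 h06 hc

/-- **the row `PSp_6(q)`, `q` odd** (hypotheses: S5788 and the conclusion of S5806) -/
theorem row_six_odd (F : Type) [Field F] [Fintype F] (hodd : Odd (Fintype.card F)) (h88 : Res88 F)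
    (h06 : ∀ H : Subgroup (GL (Fin 3 ⊕ Fin 3) F), IsMaximalIn (spGL 3 F) H → InSymplecticResidualClass H → L06 H) :
    Cfsg.Agent.H454.Reg.Row.{0, u} (PSp 3 F) :=
  fun _ _ _ hex ⟨i⟩ => (fac_false hex.toFac i hodd h88 h06).elim

end Cfsg.Agent.H370.Rg.P6
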