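import Mathlib
import Cfsg.Agent.H370.Rg.Size

/-!
# S3691: numbers for the residual cases (helper370 for helper997)

`q = p ^ f`.  `star` : `(2 f N) ^ 2 < q ^ (N - 2)` under the size hypotheses for `PSL_N(q)`, `PSU_N(q)`; consequences `n1`, `n1'`,
`n2`; `n3` for `Ω⁻(2m, q)`.
-/

set_option autoImplicit false

namespace Cfsg.Agent.H370.Rg

open Cfsg Cfsg.Agent.OrdDiv Cfsg.Agent.H436

universe u

theorem grow {c e f1 : ℕ} (he : 1 ≤ e) (hf1 : 3 ≤ f1) (h : c * f1 ^ 2 < 2 ^ (e * f1)) :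
    ∀ f, f1 ≤ f → c * f ^ 2 < 2 ^ (e * f) := by
  intro f hf
  induction f, hf using Nat.le_induction with
  | base => exact h
  | succ f hf ih =>
    have h1 : (f + 1) ^ 2 ≤ 2 * f ^ 2 := by nlinarith
    have h2 : 2 * 2 ^ (e * f) ≤ 2 ^ (e * (f + 1)) := by
      rw [mul_add, mul_one, pow_add, mul_comm]
      exact Nat.mul_le_mul_left _ (Nat.le_self_pow (by omega) 2)
    have h3 : c * (f + 1) ^ 2 ≤ 2 * (c * f ^ 2) := by
      calc c * (f + 1) ^ 2 ≤ c * (2 * f ^ 2) := Nat.mul_le_mul_left _ h1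
        _ = _ := by ring
    omega

theorem star_of {c e f1 q0 q f : ℕ} (he : 1 ≤ e) (hf1 : 3 ≤ f1) (h : c * f1 ^ 2 < 2 ^ (e * f1))
    (h0 : c * (f1 - 1) ^ 2 < q0 ^ e) (hq : q0 ≤ q) (hf : 2 ^ f ≤ q) : c * f ^ 2 < q ^ e := by
  rcases Nat.lt_or_ge f f1 with h1 | h1
  · calc c * f ^ 2 ≤ c * (f1 - 1) ^ 2 := Nat.mul_le_mul_left _ (Nat.pow_le_pow_left (by omega) 2)
      _ < q0 ^ e := h0
      _ ≤ q ^ e := Nat.pow_le_pow_left hq e
  · calc c * f ^ 2 < 2 ^ (e * f) := grow he hf1 h f h1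
      _ = (2 ^ f) ^ e := by rw [← pow_mul, mul_comm]
      _ ≤ q ^ e := Nat.pow_le_pow_left hf e

theorem four_sq {N : ℕ} (hN : 11 ≤ N) : 4 * N ^ 2 < 2 ^ (N - 2) := by
  induction N, hN using Nat.le_induction with
  | base => norm_num
  | succ N hN ih =>
    have h1 : 2 ^ (N + 1 - 2) = 2 * 2 ^ (N - 2) := by
      rw [show N + 1 - 2 = (N - 2) + 1 by omega, pow_succ]; ring
    rw [h1]
    nlinarith

/-- the size table -/
def Tab (N q : ℕ) : Prop :=
  (N = 3 → 8471 < q) ∧ (N = 4 → 124 < q) ∧ (N = 5 → 20 < q) ∧ (N = 6 → 7 < q) ∧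
      (N = 7 → 4 < q) ∧ (N = 8 → 3 < q) ∧ (N ≤ 10 → 2 < q)

theorem tab_psl {T : Type u} [Group T] (hT : 3 * Nat.factorial 29 < Nat.card T) {n q : ℕ} (h : IsNamed (.psl n q) T) :
    Tab n q := (psl_ge hT h).2

theorem tab_psu {T : Type u} [Group T] (hT : 3 * Nat.factorial 29 < Nat.card T) {n q : ℕ} (h : IsNamed (.psu n q) T) :
    Tab n q := psu_ge hT h

theorem star {N p f : ℕ} (hp : 2 ≤ p) (hf : 1 ≤ f) (hN : 3 ≤ N) (h : Tab N (p ^ f)) :
    (2 * f * N) ^ 2 < (p ^ f) ^ (N - 2) := by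
  have h2f : 2 ^ f ≤ p ^ f := Nat.pow_le_pow_left hp f
  obtain ⟨h3, h4, h5, h6, h7, h8, h10⟩ := h
  obtain ⟨q, hq⟩ : ∃ q, p ^ f = q := ⟨_, rfl⟩
  have hpf : f = 1 ∨ 4 ≤ q := by
    rcases Nat.lt_or_ge f 2 with h | h
    · left; omega
    · right
      rw [← hq]
      calc 4 = 2 ^ 2 := by norm_num
        _ ≤ 2 ^ f := Nat.pow_le_pow_right (by norm_num) h
        _ ≤ _ := h2f
  rw [hq] at h2f h3 h4 h5 h6 h7 h8 h10 ⊢
  have e : (2 * f * N) ^ 2 = (4 * N ^ 2) * f ^ 2 := by ring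
  rw [e]
  rcases Nat.lt_or_ge N 11 with hlt | hge
  · interval_cases N
    · exact star_of (f1 := 14) (q0 := 8472) (by norm_num) (by norm_num) (by norm_num) (by norm_num)
        (by have := h3 rfl; omega) h2f
    · exact star_of (f1 := 7) (q0 := 125) (by norm_num) (by norm_num) (by norm_num) (by norm_num)
        (by have := h4 rfl; omega) h2f
    · exact star_of (f1 := 5) (q0 := 21) (by norm_num) (by norm_num) (by norm_num) (by norm_num)
        (by have := h5 rfl; omega) h2f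
    · exact star_of (f1 := 4) (q0 := 8) (by norm_num) (by norm_num) (by norm_num) (by norm_num)
        (by have := h6 rfl; omega) h2f
    · exact star_of (f1 := 3) (q0 := 5) (by norm_num) (by norm_num) (by norm_num) (by norm_num)
        (by have := h7 rfl; omega) h2f
    · exact star_of (f1 := 3) (q0 := 4) (by norm_num) (by norm_num) (by norm_num) (by norm_num)
        (by have := h8 rfl; omega) h2f
    · rcases hpf with rfl | h
      · have h9 := h10 (by norm_num)
        calc 4 * 9 ^ 2 * 1 ^ 2 < 3 ^ (9 - 2) := by norm_num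
          _ ≤ _ := Nat.pow_le_pow_left h9 _
      · exact star_of (f1 := 3) (q0 := 4) (by norm_num) (by norm_num) (by norm_num) (by norm_num) h h2f
    · rcases hpf with rfl | h
      · have h9 := h10 (by norm_num)
        calc 4 * 10 ^ 2 * 1 ^ 2 < 3 ^ (10 - 2) := by norm_num
          _ ≤ _ := Nat.pow_le_pow_left h9 _
      · exact star_of (f1 := 3) (q0 := 4) (by norm_num) (by norm_num) (by norm_num) (by norm_num) h h2f
  · have h1 := four_sq hge
    have h2 : (4 * N ^ 2) * f ^ 2 < 2 ^ (f * (N - 2)) := by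
      clear hpf h2f hq e
      induction f, hf using Nat.le_induction with
      | base => simpa using h1
      | succ f hf ih =>
        have h3 : (f + 1) ^ 2 ≤ 4 * f ^ 2 := by nlinarith
        have h5 : 4 * 2 ^ (f * (N - 2)) ≤ 2 ^ ((f + 1) * (N - 2)) := by
          rw [add_mul, one_mul, pow_add, mul_comm]
          exact Nat.mul_le_mul_left _ (by
            calc 4 = 2 ^ 2 := by norm_num
              _ ≤ 2 ^ (N - 2) := Nat.pow_le_pow_right (by norm_num) (by omega))
        have h6 : 4 * N ^ 2 * (f + 1) ^ 2 ≤ 4 * (4 * N ^ 2 * f ^ 2) := by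
          calc 4 * N ^ 2 * (f + 1) ^ 2 ≤ 4 * N ^ 2 * (4 * f ^ 2) := Nat.mul_le_mul_left _ h3
            _ = _ := by ring
        have h7 := ih
        omega
    calc (4 * N ^ 2) * f ^ 2 < 2 ^ (f * (N - 2)) := h2
      _ = (2 ^ f) ^ (N - 2) := by rw [← pow_mul]
      _ ≤ _ := Nat.pow_le_pow_left h2f _

theorem proj_le {p n : ℕ} (hn : n ≠ 0) : ordProj[p] n ≤ n := Nat.le_of_dvd (Nat.pos_of_ne_zero hn) (Nat.ordProj_dvd n p)

section

variable {N p f : ℕ} (hp : p.Prime) (hf : 1 ≤ f) (hN : 3 ≤ N) (h : Tab N (p ^ f))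

include hp hf hN h

theorem n1_aux : 8 * f ^ 2 * N ^ 2 < p ^ (f * (N - 1)) := by
  have h1 := star hp.two_le hf hN h
  have hq : 2 ≤ p ^ f := hp.two_le.trans (Nat.le_self_pow (by omega) p)
  have h2 : (p ^ f) ^ (N - 2) * 2 ≤ (p ^ f) ^ (N - 2) * p ^ f := Nat.mul_le_mul_left _ hq
  calc 8 * f ^ 2 * N ^ 2 = (2 * f * N) ^ 2 * 2 := by ring
    _ < (p ^ f) ^ (N - 2) * 2 := Nat.mul_lt_mul_of_pos_right h1 (by norm_num)
    _ ≤ (p ^ f) ^ (N - 2) * p ^ f := h2
    _ = p ^ (f * (N - 1)) := by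
        rw [← pow_succ, ← pow_mul]
        congr 2
        omega

theorem n1 : ordProj[p] (2 * f) * ordProj[p] N * (2 * N + 2) < p ^ (f * (N - 1)) := by
  refine lt_of_le_of_lt ?_ (n1_aux hp hf hN h)
  calc ordProj[p] (2 * f) * ordProj[p] N * (2 * N + 2) ≤ (2 * f) * N * (4 * N) :=
        Nat.mul_le_mul (Nat.mul_le_mul (proj_le (by omega)) (proj_le (by omega))) (by omega)
    _ = 8 * f * N ^ 2 := by ring
    _ ≤ 8 * f ^ 2 * N ^ 2 := by
        apply Nat.mul_le_mul_right
        nlinarith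

theorem n1' : ordProj[p] (2 * f) * ordProj[p] N * 9 < p ^ (f * (N - 1)) := by
  refine lt_of_le_of_lt ?_ (n1_aux hp hf hN h)
  calc ordProj[p] (2 * f) * ordProj[p] N * 9 ≤ (2 * f) * N * (4 * N) :=
        Nat.mul_le_mul (Nat.mul_le_mul (proj_le (by omega)) (proj_le (by omega))) (by omega)
    _ = 8 * f * N ^ 2 := by ring
    _ ≤ 8 * f ^ 2 * N ^ 2 := by
        apply Nat.mul_le_mul_right
        nlinarith

theorem n2 : 2 * (2 * f).factorization p + 2 * N.factorization p + f * N < 2 * f * (N - 1) := by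
  have h1 := star hp.two_le hf hN h
  have h2 : p ^ (2 * (2 * f).factorization p + 2 * N.factorization p) < p ^ (f * (N - 2)) := by
    calc p ^ (2 * (2 * f).factorization p + 2 * N.factorization p)
        = (ordProj[p] (2 * f) * ordProj[p] N) ^ 2 := by rw [mul_pow, ← pow_mul, ← pow_mul, ← pow_add]; congr 1; ring
      _ ≤ (2 * f * N) ^ 2 := Nat.pow_le_pow_left (Nat.mul_le_mul (proj_le (by omega)) (proj_le (by omega))) 2
      _ < (p ^ f) ^ (N - 2) := h1
      _ = _ := by rw [← pow_mul]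
  have h3 := (Nat.pow_lt_pow_iff_right hp.one_lt).1 h2
  obtain ⟨k, rfl⟩ : ∃ k, N = k + 3 := ⟨N - 3, by omega⟩
  have e1 : f * (k + 3 - 2) = f * k + f := by
    rw [show k + 3 - 2 = k + 1 by omega]; ring
  have e2 : 2 * f * (k + 3 - 1) = 2 * (f * k) + 4 * f := by
    rw [show k + 3 - 1 = k + 2 by omega]; ring
  have e3 : f * (k + 3) = f * k + 3 * f := by ring
  rw [e1] at h3
  rw [e2, e3]
  omega

end

/-! ### `Ω⁻(2m, q)` -/

/-- the size table -/
def TabM (m q : ℕ) : Prop := (m = 4 → 13 < q) ∧ (m = 5 → 4 < q) ∧ (m ≤ 7 → 2 < q)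

theorem tab_ominus {T : Type u} [Group T] (hT : 3 * Nat.factorial 29 < Nat.card T) {m q : ℕ}
    (h : IsNamed (.ominus m q) T) : TabM m q := ominus_ge hT h

theorem lin {c e f1 : ℕ} (he : 1 ≤ e) (hf1 : 1 ≤ f1) (h : c * f1 < 2 ^ (e * f1)) :
    ∀ f, f1 ≤ f → c * f < 2 ^ (e * f) := by
  intro f hf
  induction f, hf using Nat.le_induction with
  | base => exact h
  | succ f hf ih =>
    have h2 : 2 * 2 ^ (e * f) ≤ 2 ^ (e * (f + 1)) := by
      rw [mul_add, mul_one, pow_add, mul_comm]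
      exact Nat.mul_le_mul_left _ (Nat.le_self_pow (by omega) 2)
    have h3 : c * (f + 1) ≤ 2 * (c * f) := by
      calc c * (f + 1) ≤ c * (2 * f) := Nat.mul_le_mul_left _ (by omega)
        _ = _ := by ring
    omega

theorem m_two {m : ℕ} (hm : 13 ≤ m) : 8 * m * (2 * m + 1) < 2 ^ (m - 1) := by
  induction m, hm using Nat.le_induction with
  | base => norm_num
  | succ m hm ih =>
    have h1 : 2 ^ (m + 1 - 1) = 2 * 2 ^ (m - 1) := by
      rw [show m + 1 - 1 = (m - 1) + 1 by omega, pow_succ]; ring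
    rw [h1]
    nlinarith

theorem m_three {m : ℕ} (hm : 6 ≤ m) : m * (4 * m + 2) < 3 ^ (m - 1) := by
  induction m, hm using Nat.le_induction with
  | base => norm_num
  | succ m hm ih =>
    have h1 : 3 ^ (m + 1 - 1) = 3 * 3 ^ (m - 1) := by
      rw [show m + 1 - 1 = (m - 1) + 1 by omega, pow_succ]; ring
    rw [h1]
    nlinarith

theorem proj_two_mul {f : ℕ} (hf : 1 ≤ f) {p : ℕ} (hp : p.Prime) (h2 : p ≠ 2) : ordProj[p] (2 * f) ≤ f := by
  rw [Nat.factorization_mul (by norm_num) (by omega), Finsupp.add_apply,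
    Nat.factorization_eq_zero_of_not_dvd (n := 2) (p := p) (fun h =>
      h2 ((Nat.prime_dvd_prime_iff_eq hp Nat.prime_two).1 h)), zero_add]
  exact proj_le (by omega)

/-- `f · c < (3 ^ e) ^ f` from `f = 1` -/
theorem lin3 {c x f : ℕ} (hf : 1 ≤ f) (hx : 2 ≤ x) (h : c < x) : f * c < x ^ f := by
  induction f, hf using Nat.le_induction with
  | base => simpa using h
  | succ f hf ih =>
    have h2 : (f + 1) * c ≤ 2 * (f * c) := by nlinarith
    calc (f + 1) * c ≤ 2 * (f * c) := h2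
      _ < 2 * x ^ f := by omega
      _ ≤ x ^ (f + 1) := by rw [pow_succ, mul_comm]; exact Nat.mul_le_mul_left _ hx

theorem odd_case {m f p : ℕ} (hp3 : 3 ≤ p) (hf : 1 ≤ f) (hm : 4 ≤ m) (h : TabM m (p ^ f)) :
    f * (m * (4 * m + 2)) < p ^ (f * (m - 1)) := by
  rcases Nat.lt_or_ge m 6 with h6 | h6
  · obtain ⟨h4, h5, -⟩ := h
    have hfp : f < p ^ f := Nat.lt_pow_self (by omega)
    rw [pow_mul]
    generalize p ^ f = q at *
    have h45 : m = 4 ∨ m = 5 := by omega
    rcases h45 with rfl | rfl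
    · have h14 := h4 rfl
      have h1 : 196 ≤ q ^ 2 := by nlinarith
      calc f * (4 * (4 * 4 + 2)) < q * 196 := by omega
        _ ≤ q * q ^ 2 := Nat.mul_le_mul_left _ h1
        _ = q ^ (4 - 1) := by ring
    · have h14 := h5 rfl
      have h1 : 125 ≤ q ^ 3 := by
        calc 125 = 5 ^ 3 := by norm_num
          _ ≤ q ^ 3 := Nat.pow_le_pow_left h14 3
      calc f * (5 * (4 * 5 + 2)) < q * 125 := by omega
        _ ≤ q * q ^ 3 := Nat.mul_le_mul_left _ h1
        _ = q ^ (5 - 1) := by ring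
  · calc f * (m * (4 * m + 2)) < (3 ^ (m - 1)) ^ f :=
          lin3 hf (by
            calc 2 ≤ 3 := by norm_num
              _ ≤ 3 ^ (m - 1) := Nat.le_self_pow (by omega) 3) (m_three h6)
      _ = 3 ^ (f * (m - 1)) := by rw [← pow_mul, mul_comm]
      _ ≤ _ := Nat.pow_le_pow_left hp3 _

theorem proj_pow (a b : ℕ) (hb : ¬ 2 ∣ b) : ordProj[2] (2 ^ a * b) = 2 ^ a := by
  have hb0 : b ≠ 0 := by rintro rfl; exact hb (dvd_zero 2)
  rw [Nat.factorization_mul (pow_ne_zero _ (by norm_num)) hb0, Finsupp.add_apply,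
    Nat.Prime.factorization_pow Nat.prime_two, Finsupp.single_eq_same, Nat.factorization_eq_zero_of_not_dvd hb, add_zero]

theorem two_crude {m f : ℕ} (hf : 1 ≤ f) (hm : 1 ≤ m) (h : 8 * m * (2 * m + 1) * f < 2 ^ ((m - 1) * f)) :
    ordProj[2] (2 * f) * ordProj[2] (2 * m) * (4 * m + 2) < 2 ^ (f * (m - 1)) := by
  rw [mul_comm (m - 1) f] at h
  refine lt_of_le_of_lt ?_ h
  calc ordProj[2] (2 * f) * ordProj[2] (2 * m) * (4 * m + 2) ≤ (2 * f) * (2 * m) * (4 * m + 2) :=
        Nat.mul_le_mul_right _ (Nat.mul_le_mul (proj_le (by omega)) (proj_le (by omega)))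
    _ = _ := by ring

theorem two_case {m f : ℕ} (hf : 1 ≤ f) (hm : 4 ≤ m) (h : TabM m (2 ^ f)) (h8 : ¬ (f = 1 ∧ m = 8)) :
    ordProj[2] (2 * f) * ordProj[2] (2 * m) * (4 * m + 2) < 2 ^ (f * (m - 1)) := by
  rcases Nat.lt_or_ge m 13 with h13 | h13
  · obtain ⟨h4, h5, h7⟩ := h
    have key : ∀ a, a < 2 ^ f → ∀ b, 2 ^ b ≤ a → b < f := fun a ha b hb =>
      (Nat.pow_lt_pow_iff_right (by norm_num)).1 (lt_of_le_of_lt hb ha)
    interval_cases m
    · have h1 := key 13 (h4 rfl) 3 (by norm_num)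
      exact two_crude hf (by norm_num) (lin (f1 := 4) (by norm_num) (by norm_num) (by norm_num) f h1)
    · have h1 := key 4 (h5 rfl) 2 (by norm_num)
      exact two_crude hf (by norm_num) (lin (f1 := 3) (by norm_num) (by norm_num) (by norm_num) f h1)
    · have h1 := key 2 (h7 (by norm_num)) 1 (by norm_num)
      rcases Nat.lt_or_ge f 3 with h3 | h3
      · have : f = 2 := by omega
        subst this
        have e1 : ordProj[2] (2 * 2) = 4 := proj_pow 2 1 (by norm_num)
        have e2 : ordProj[2] (2 * 6) = 4 := proj_pow 2 3 (by norm_num)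
        rw [e1, e2]; norm_num
      · exact two_crude hf (by norm_num) (lin (f1 := 3) (by norm_num) (by norm_num) (by norm_num) f h3)
    · have h1 := key 2 (h7 (by norm_num)) 1 (by norm_num)
      exact two_crude hf (by norm_num) (lin (f1 := 2) (by norm_num) (by norm_num) (by norm_num) f h1)
    · exact two_crude hf (by norm_num) (lin (f1 := 2) (by norm_num) (by norm_num) (by norm_num) f (by omega))
    · rcases Nat.lt_or_ge f 2 with h3 | h3
      · have : f = 1 := by omega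
        subst this
        have e1 : ordProj[2] (2 * 1) = 2 := proj_pow 1 1 (by norm_num)
        have e2 : ordProj[2] (2 * 9) = 2 := proj_pow 1 9 (by norm_num)
        rw [e1, e2]; norm_num
      · exact two_crude hf (by norm_num) (lin (f1 := 2) (by norm_num) (by norm_num) (by norm_num) f h3)
    · rcases Nat.lt_or_ge f 2 with h3 | h3
      · have : f = 1 := by omega
        subst this
        have e1 : ordProj[2] (2 * 1) = 2 := proj_pow 1 1 (by norm_num)
        have e2 : ordProj[2] (2 * 10) = 4 := proj_pow 2 5 (by norm_num)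
        rw [e1, e2]; norm_num
      · exact two_crude hf (by norm_num) (lin (f1 := 2) (by norm_num) (by norm_num) (by norm_num) f h3)
    · rcases Nat.lt_or_ge f 2 with h3 | h3
      · have : f = 1 := by omega
        subst this
        have e1 : ordProj[2] (2 * 1) = 2 := proj_pow 1 1 (by norm_num)
        have e2 : ordProj[2] (2 * 11) = 2 := proj_pow 1 11 (by norm_num)
        rw [e1, e2]; norm_num
      · exact two_crude hf (by norm_num) (lin (f1 := 2) (by norm_num) (by norm_num) (by norm_num) f h3)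
    · rcases Nat.lt_or_ge f 2 with h3 | h3
      · have : f = 1 := by omega
        subst this
        have e1 : ordProj[2] (2 * 1) = 2 := proj_pow 1 1 (by norm_num)
        have e2 : ordProj[2] (2 * 12) = 8 := proj_pow 3 3 (by norm_num)
        rw [e1, e2]; norm_num
      · exact two_crude hf (by norm_num) (lin (f1 := 2) (by norm_num) (by norm_num) (by norm_num) f h3)
  · apply two_crude hf (by omega)
    calc 8 * m * (2 * m + 1) * f = f * (8 * m * (2 * m + 1)) := mul_comm _ _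
      _ < (2 ^ (m - 1)) ^ f := lin3 hf (Nat.le_self_pow (by omega) 2) (m_two h13)
      _ = _ := by rw [← pow_mul]

theorem n3 {m p f : ℕ} (hp : p.Prime) (hf : 1 ≤ f) (hm : 4 ≤ m) (h : TabM m (p ^ f)) (h8 : ¬ (p ^ f = 2 ∧ m = 8)) :
    ordProj[p] (2 * f) * ordProj[p] (2 * m) * (4 * m + 2) < p ^ (f * (m - 1)) := by
  by_cases h2 : p = 2
  · subst h2
    exact two_case hf hm h (by
      rintro ⟨rfl, rfl⟩
      exact h8 ⟨by norm_num, rfl⟩)
  · have hp3 : 3 ≤ p := by
      have := hp.two_le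
      omega
    refine lt_of_le_of_lt ?_ (odd_case hp3 hf hm h)
    calc ordProj[p] (2 * f) * ordProj[p] (2 * m) * (4 * m + 2) ≤ f * m * (4 * m + 2) :=
          Nat.mul_le_mul_right _ (Nat.mul_le_mul (proj_two_mul hf hp h2) (proj_two_mul (by omega) hp h2))
      _ = _ := by ring

end Cfsg.Agent.H370.Rg
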